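import Cfsg.Agent.H21.Zassenhaus.Centralizer
import Cfsg.Agent.H28.CyclicSylow

/-!
Non-solvable groups acting fixed-point-freely.
-/

namespace Cfsg.Agent.H21

open Zass

universe u

/-- A finite non-solvable group has a nontrivial perfect normal subgroup. -/
theorem exists_perfect_normal {G : Type*} [Group G] [Finite G] (hns : ¬ Group.IsSolvable G) :
    ∃ R : Subgroup G, R.Normal ∧ R ≠ ⊥ ∧ commutator ↥R = ⊤ ∧
      ∀ M : Subgroup G, commutator ↥M = ⊤ → M ≤ R := by
  obtain ⟨m, hm⟩ : ∃ m, derivedSeries G (m + 1) = derivedSeries G m := by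
    by_contra h
    push Not at h
    have hlt : ∀ m, Nat.card (derivedSeries G m) + m ≤ Nat.card G := by
      intro m
      induction m with
      | zero => simpa using Subgroup.card_le_card_group _
      | succ m ih =>
        have hle : derivedSeries G (m + 1) ≤ derivedSeries G m :=
          derivedSeries_antitone G (Nat.le_succ m)
        have : Nat.card (derivedSeries G (m + 1)) < Nat.card (derivedSeries G m) :=
          lt_of_le_of_ne (Subgroup.card_le_of_le hle)
            fun e => h m (Subgroup.eq_of_le_of_card_ge hle e.ge)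
        omega
    have h1 := hlt (Nat.card G)
    have h2 : 0 < Nat.card (derivedSeries G (Nat.card G)) := Nat.card_pos
    omega
  have hperf : ∀ M : Subgroup G, ⁅M, M⁆ = M → commutator ↥M = ⊤ := fun M hM => by
    apply Subgroup.map_injective M.subtype_injective
    rw [Subgroup.map_subtype_commutator, ← MonoidHom.range_eq_map, Subgroup.range_subtype, hM]
  refine ⟨derivedSeries G m, derivedSeries_normal G m, fun e => hns ⟨m, e⟩, hperf _ hm, fun M hM => ?_⟩
  have hM' : ⁅M, M⁆ = M := by
    have := congrArg (Subgroup.map M.subtype) hM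
    rwa [Subgroup.map_subtype_commutator, ← MonoidHom.range_eq_map, Subgroup.range_subtype] at this
  suffices ∀ j, M ≤ derivedSeries G j from this m
  intro j
  induction j with
  | zero => simp
  | succ j ih =>
    rw [derivedSeries_succ, ← hM']
    exact Subgroup.commutator_mono ih ih

/-- A Frobenius complement has a fixed-point-free action on a nontrivial finite group. -/
theorem exists_action_of_fc {G L : Type*} [Group G] [Group L] [Finite L] {H : Subgroup L}
    (hH : Cfsg.IsFrobeniusComplement H) (e : G ≃* H) :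
    ∃ (K : Subgroup L) (_ : Nontrivial K) (ψ : G →* MulAut K),
      ∀ g : G, g ≠ 1 → ∀ v : K, ψ g v = v → v = 1 := by
  obtain ⟨N, -, hn, hc⟩ := exists_kernel hH
  have hN : N ≠ ⊥ := fun h => hH.2.1 (by
    have := hc.sup_eq_top
    rwa [h, bot_sup_eq] at this)
  refine ⟨N, (Subgroup.nontrivial_iff_ne_bot N).mpr hN,
    (conjHom (le_normalizer_of_normal N H)).comp e.toMonoidHom, fun g hg v hv => ?_⟩
  exact conjHom_fpf (le_normalizer_of_normal N H)
    (fun a ha ha1 => fpf_of_fc hH hc.disjoint ha ha1) (e g)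
    (fun h => hg (e.injective (h.trans e.map_one.symm))) v hv

/-- A finite non-solvable group acting fixed-point-freely has a normal subgroup `SL(2,5) × M` of
index at most two, with `M` a `Z`-group of order prime to 30. -/
theorem exists_sl_times_zgroup {G : Type*} [Group G] [Finite G] {K : Type u} [Group K] [Finite K]
    [Nontrivial K] (ψ : G →* MulAut K) (hfpf : ∀ g : G, g ≠ 1 → ∀ v : K, ψ g v = v → v = 1)
    (hns : ¬ Group.IsSolvable G) :
    ∃ G₀ : Subgroup G, G₀.Normal ∧ (G₀.index = 1 ∨ G₀.index = 2) ∧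
      ∃ S M : Subgroup G, S.Normal ∧ S ⊔ M = G₀ ∧ S ⊓ M = ⊥ ∧ (∀ s ∈ S, ∀ x ∈ M, s * x = x * s) ∧
        Nonempty (S ≃* Matrix.SpecialLinearGroup (Fin 2) (ZMod 5)) ∧
        commutator ↥S = ⊤ ∧ (∀ R : Subgroup G, commutator ↥R = ⊤ → R ≤ S) ∧
        IsZGroup M ∧ (Nat.card M).Coprime 30 := by
  have : Nontrivial G := not_subsingleton_iff_nontrivial.mp fun h => hns inferInstance
  obtain ⟨R, hRn, hR0, hRp, hRmax⟩ := exists_perfect_normal hns
  have : Nontrivial R := (Subgroup.nontrivial_iff_ne_bot R).mpr hR0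
  obtain ⟨e⟩ := equiv_SL_of_perfect (ψ.comp R.subtype)
    (fun g hg v hv => hfpf g (fun h => hg (Subtype.ext h)) v hv) hRp
  obtain ⟨k, _, _, V, _, _, _, _, ρ, hρ⟩ := exists_rep ψ hfpf
  obtain ⟨θ₀, C₀, hθ₀, w, hw, hwθ⟩ := exists_cover_SL
  have i := R.subtype_injective
  let θ : R →* alternatingGroup (Fin 5) := θ₀.comp e.toMonoidHom
  have C : IsCover θ := ⟨fun g hg => e.injective (by rw [map_mul, map_one]; exact C₀.ker (e g) hg),
    (hρ.comp i).invol_central⟩
  have hθ : Function.Surjective θ := hθ₀.comp e.surjective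
  obtain ⟨z, hz⟩ := e.surjective w
  have hzi : IsInvol z := (isInvol_map (f := e.toMonoidHom) e.injective).mp
    (by show IsInvol (e z); rw [hz]; exact hw)
  have hzθ : θ z = 1 := by show θ₀ (e z) = 1; rw [hz]; exact hwθ
  have hcard : Nat.card R = 120 := by
    have h2 : Nat.card θ.ker = 2 := by
      rw [Nat.card_eq_two_iff]
      refine ⟨1, ⟨z, hzθ⟩, fun h => hzi.2 (congrArg Subtype.val h).symm, ?_⟩
      refine Set.eq_univ_of_forall fun a => ?_
      by_cases ha : (a : R) = 1
      · exact Or.inl (Subtype.ext ha)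
      · exact Or.inr (Subtype.ext ((C.invol _ hzi).2 _ ⟨C.ker _ a.2, ha⟩))
    have h := θ.ker.index_mul_card
    rw [h2, Subgroup.index_ker, MonoidHom.range_eq_top.mpr hθ, Subgroup.card_top,
      Nat.card_eq_fintype_card] at h
    have h60 : Fintype.card (alternatingGroup (Fin 5)) = 60 := by decide +kernel
    omega
  set Cz := Subgroup.centralizer (R : Set G) with hCz
  have hCn : Cz.Normal := ⟨fun a ha g => Subgroup.mem_centralizer_iff.mpr fun s hs => by
    have := Subgroup.mem_centralizer_iff.mp ha _ (hRn.conj_mem s hs g⁻¹)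
    rw [inv_inv] at this
    calc s * (g * a * g⁻¹) = g * ((g⁻¹ * s * g) * a) * g⁻¹ := by group
      _ = g * (a * (g⁻¹ * s * g)) * g⁻¹ := by rw [this]
      _ = g * a * g⁻¹ * s := by group⟩
  have hidx := index_sup_centralizer_le hρ hcard C hθ
  -- the central involution
  have hzG : IsInvol (z : G) := (isInvol_map i).mpr hzi
  have hzc : ∀ g : G, (z : G) * g = g * z := (hρ.invol_central _ hzG).1
  have hzC : (z : G) ∈ Cz := Subgroup.mem_centralizer_iff.mpr fun g _ => (hzc g).symm
  set z' : Cz := ⟨z, hzC⟩ with hz'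
  have hzi' : IsInvol z' := (isInvol_map (f := Cz.subtype) Cz.subtype_injective).mp hzG
  have hZC : IsZGroup Cz := ⟨fun p hp P => by
    have := Fact.mk hp
    by_cases hp2 : p = 2
    · subst hp2
      have hle : (P : Subgroup Cz) ≤ Subgroup.zpowers z' := by
        intro a ha
        obtain ⟨j, hj⟩ := P.2 ⟨a, ha⟩
        have hsq : (a : G) * a = 1 := sq_of_mem_centralizer hρ C hθ j a a.2
          (by simpa using congrArg (fun y : P => ((y : Cz) : G)) hj)
        by_cases h1 : a = 1
        · rw [h1]; exact one_mem _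
        · rw [show a = z' from Subtype.ext ((hρ.invol_central _ hzG).2 _
            ⟨hsq, fun h => h1 (Subtype.ext h)⟩)]
          exact Subgroup.mem_zpowers _
      exact Subgroup.isCyclic_of_le hle
    · have := sylow_cyclic ψ hfpf hp2 (P.2.map Cz.subtype)
      exact isCyclic_of_surjective _
        ((P : Subgroup Cz).equivMapOfInjective Cz.subtype Cz.subtype_injective).symm.surjective⟩
  have hord : orderOf z' = 2 := orderOf_eq_prime (by rw [pow_two]; exact hzi'.1) hzi'.2
  have heven : Even (Nat.card Cz) := even_iff_two_dvd.mpr (hord ▸ orderOf_dvd_natCard z')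
  obtain ⟨T⟩ : Nonempty (Sylow 2 Cz) := inferInstance
  obtain ⟨M₀, hM₀⟩ := H28.exists_index_two_of_cyclic_sylow heven T (inferInstance : IsCyclic T)
  have hTcard : Nat.card T ≤ 2 := by
    refine le_trans (Subgroup.card_le_of_le (K := Subgroup.zpowers z') fun a ha => ?_)
      (le_of_eq (by rw [Nat.card_zpowers, hord]))
    obtain ⟨j, hj⟩ := T.2 ⟨a, ha⟩
    have hsq : (a : G) * a = 1 := sq_of_mem_centralizer hρ C hθ j a a.2
      (by simpa using congrArg (fun y : T => ((y : Cz) : G)) hj)
    by_cases h1 : a = 1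
    · rw [h1]; exact one_mem _
    · rw [show a = z' from Subtype.ext ((hρ.invol_central _ hzG).2 _
        ⟨hsq, fun h => h1 (Subtype.ext h)⟩)]
      exact Subgroup.mem_zpowers _
  have h4 : ¬ 4 ∣ Nat.card Cz := by
    intro h
    have h' : 2 ^ 2 ∣ Nat.card Cz := h
    rw [Nat.Prime.pow_dvd_iff_le_factorization Nat.prime_two Nat.card_pos.ne'] at h'
    rw [T.card_eq_multiplicity] at hTcard
    have := (Nat.pow_le_pow_right two_pos h').trans hTcard
    omega
  have hM₀odd : ¬ 2 ∣ Nat.card M₀ := by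
    intro h
    apply h4
    have := M₀.index_mul_card
    rw [hM₀] at this
    rw [← this]
    exact Nat.mul_dvd_mul_left 2 h
  set M := M₀.map Cz.subtype with hM
  have hMC : M ≤ Cz := Subgroup.map_subtype_le M₀
  have hMcard : Nat.card M = Nat.card M₀ :=
    Nat.card_congr (M₀.equivMapOfInjective _ Cz.subtype_injective).symm.toEquiv
  have hsup : R ⊔ M = R ⊔ Cz := by
    refine le_antisymm (sup_le_sup_left hMC R) (sup_le le_sup_left fun a ha => ?_)
    by_cases ha0 : (⟨a, ha⟩ : Cz) ∈ M₀
    · exact Subgroup.mem_sup_right ⟨_, ha0, rfl⟩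
    have hz0 : z' ∉ M₀ := fun h => hM₀odd (hord ▸ (Subgroup.orderOf_mk z' h ▸ orderOf_dvd_natCard _))
    have hmem : z' * (⟨a, ha⟩ : Cz) ∈ M₀ := (Subgroup.mul_mem_iff_of_index_two hM₀).mpr (iff_of_false hz0 ha0)
    have : a = (z : G) * ((z : G) * a) := by rw [← mul_assoc, hzG.1, one_mul]
    rw [this]
    exact mul_mem (Subgroup.mem_sup_left z.2) (Subgroup.mem_sup_right ⟨_, hmem, rfl⟩)
  refine ⟨R ⊔ M, by rw [hsup]; infer_instance, by rw [hsup]; exact hidx, R, M, hRn, rfl, ?_, ?_, ⟨e⟩,
    hRp, hRmax, ?_, ?_⟩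
  · rw [Subgroup.eq_bot_iff_forall]
    rintro a ⟨haR, haM⟩
    have h2 : a ^ 2 = 1 := by
      rw [pow_two]
      exact congrArg Subtype.val (C.ker ⟨a, haR⟩ (cover_centre hθ (s := ⟨a, haR⟩) (hMC haM)))
    by_contra ha1
    apply hM₀odd
    rw [← hMcard, ← orderOf_eq_prime h2 ha1, ← Subgroup.orderOf_mk a haM]
    exact orderOf_dvd_natCard _
  · exact fun s hs x hx => Subgroup.mem_centralizer_iff.mp (hMC hx) s hs
  · exact IsZGroup.of_injective (f := Subgroup.inclusion hMC) (Subgroup.inclusion_injective hMC)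
  · rw [hMcard]
    refine Nat.coprime_of_dvd fun p hp hd h30 => ?_
    have hdC : p ∣ Nat.card Cz := hd.trans M₀.card_subgroup_dvd_card
    have hp2 : p ≠ 2 := fun e => hM₀odd (e ▸ hd)
    exact not_dvd_card_centralizer hρ hcard C hθ hp hp2 (h30.trans (by norm_num)) hdC

end Cfsg.Agent.H21
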