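import Mathlib.GroupTheory.IsSubnormal
import Mathlib.GroupTheory.Index
import Mathlib.GroupTheory.Sylow

/-!
Wielandt's zipper lemma and subnormality criterion.
-/

namespace Cfsg.Agent.H21

open scoped Pointwise

variable {G : Type*} [Group G]

/-- Subnormality in a subgroup passes to smaller subgroups containing the subnormal one. -/
theorem isSubnormal_subgroupOf_of_le {A L N : Subgroup G} (hAN : A ≤ N) (hNL : N ≤ L)
    (h : (A.subgroupOf L).IsSubnormal) : (A.subgroupOf N).IsSubnormal := by
  have h2 := h.comap (Subgroup.inclusion hNL)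
  rwa [show (A.subgroupOf L).comap (Subgroup.inclusion hNL) = A.subgroupOf N from rfl] at h2

variable [Finite G]

/-- If `B` is subnormal and normalizes the subnormal subgroup `A`, the join is subnormal. -/
theorem sup_isSubnormal {A B : Subgroup G} (hA : A.IsSubnormal) (hB : B.IsSubnormal)
    (hBA : B ≤ Subgroup.normalizer (A : Set G)) : (A ⊔ B).IsSubnormal := by
  -- the normal closure chain of `A` is `B`-invariant
  suffices h : ∀ N : Subgroup G, A ≤ N → (A.subgroupOf N).IsSubnormal →
      B ≤ Subgroup.normalizer (N : Set G) → (N ⊔ B).IsSubnormal → (A ⊔ B).IsSubnormal from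
    h ⊤ le_top hA.subgroupOf (by rw [Subgroup.normalizer_eq_top]; exact le_top) (by simp)
  intro N
  induction N using WellFoundedLT.induction with
  | _ N ih =>
    intro hAN hAsn hBN hNB
    rcases eq_or_ne (A.subgroupOf N) ⊤ with htop | hne
    · rwa [le_antisymm hAN (Subgroup.subgroupOf_eq_top.mp htop)]
    set C := Subgroup.normalClosure ((A.subgroupOf N : Subgroup N) : Set N) with hC
    obtain ⟨K, hK, hAK, hKlt⟩ := hAsn.exists_normal_and_le_and_lt_top_of_ne hne
    have hCK : C ≤ K := Subgroup.normalClosure_le_normal hAK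
    set N' := C.map N.subtype with hN'
    have hN'le : N' ≤ N := Subgroup.map_subtype_le _
    have hAC : A.subgroupOf N ≤ C := Subgroup.le_normalClosure
    have hAN' : A ≤ N' := fun a ha => ⟨⟨a, hAN ha⟩, hAC ha, rfl⟩
    have hlt : N' < N := by
      refine lt_of_le_of_ne hN'le fun h => (lt_of_le_of_lt hCK hKlt).ne ?_
      refine top_le_iff.mp fun x _ => ?_
      obtain ⟨y, hy, hyx⟩ := h.ge x.2
      exact Subtype.ext hyx ▸ hy
    have hBN' : B ≤ Subgroup.normalizer (N' : Set G) := by
      intro b hb
      refine Subgroup.mem_normalizer_fintype ?_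
      rintro _ ⟨x, hx, rfl⟩
      induction hx using Subgroup.closure_induction with
      | mem y hy =>
        obtain ⟨a, ha, hay⟩ := Group.mem_conjugatesOfSet_iff.mp hy
        obtain ⟨n, hn⟩ := isConj_iff.mp hay
        have ha' : (a : G) ∈ A := ha
        have hconj : b * (n : G) * b⁻¹ ∈ N := (Subgroup.mem_normalizer_iff.mp (hBN hb) n).mp n.2
        have hba : b * (a : G) * b⁻¹ ∈ A := (Subgroup.mem_normalizer_iff.mp (hBA hb) a).mp ha'
        refine ⟨⟨b * n * b⁻¹, hconj⟩ * ⟨_, hAN hba⟩ * ⟨b * n * b⁻¹, hconj⟩⁻¹,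
          Subgroup.normalClosure_normal.conj_mem _ (hAC hba) _, ?_⟩
        rw [← hn]
        change (b * (n : G) * b⁻¹) * (b * (a : G) * b⁻¹) * (b * (n : G) * b⁻¹)⁻¹ =
          b * ((n : G) * a * (n : G)⁻¹) * b⁻¹
        group
      | one => exact ⟨1, one_mem _, by simp⟩
      | mul x y _ _ hx' hy' =>
        have := mul_mem hx' hy'
        simpa [mul_assoc] using this
      | inv x _ hx' =>
        have := inv_mem hx'
        simpa [mul_assoc] using this
    refine ih N' hlt hAN' (isSubnormal_subgroupOf_of_le hAN' hN'le hAsn) hBN' ?_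
    -- `N'` is normal in `M = N ⊔ B`; pull back the image of `B`
    set M := N ⊔ B
    have hN'M : N' ≤ M := hN'le.trans le_sup_left
    have hNN' : N ≤ Subgroup.normalizer (N' : Set G) := by
      have : (N'.subgroupOf N).Normal := by
        rw [hN', Subgroup.subgroupOf, Subgroup.comap_map_eq_self_of_injective N.subtype_injective]
        exact Subgroup.normalClosure_normal
      exact (Subgroup.normal_subgroupOf_iff_le_normalizer hN'le).mp this
    have : (N'.subgroupOf M).Normal :=
      Subgroup.normal_subgroupOf_of_le_normalizer (sup_le hNN' hBN')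
    have h2 : ((N' ⊔ B).subgroupOf M).IsSubnormal := by
      rw [Subgroup.subgroupOf_sup hN'M le_sup_right, sup_comm]
      have := ((hB.subgroupOf (K := M)).quotient (K := N'.subgroupOf M)).comap
        (QuotientGroup.mk' (N'.subgroupOf M))
      rwa [Subgroup.comap_map_eq, QuotientGroup.ker_mk'] at this
    exact Subgroup.IsSubnormal.trans (sup_le hN'M le_sup_right) h2 hNB

omit [Finite G] in
/-- The image of `A` in `L` is subnormal for a conjugate when it is for `A` in the conjugate of `L`. -/
theorem isSubnormal_map_conj {A L : Subgroup G} (x : G) (hAL : A ≤ L)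
    (h : (A.subgroupOf L).IsSubnormal) :
    ((A.map (MulAut.conj x : G →* G)).subgroupOf (L.map (MulAut.conj x : G →* G))).IsSubnormal := by
  have := h.map (f := (MulAut.conj x : G →* G).subgroupMap L) (MonoidHom.subgroupMap_surjective _ _)
  convert this using 1
  ext ⟨y, hy⟩
  constructor
  · rintro ⟨a, ha, hay⟩
    exact ⟨⟨a, hAL ha⟩, ha, Subtype.ext hay⟩
  · rintro ⟨⟨a, haL⟩, ha, hay⟩
    exact ⟨a, ha, congrArg Subtype.val hay⟩

/-- Wielandt's zipper lemma. -/
theorem zipper {A : Subgroup G} (hsub : ∀ L : Subgroup G, A ≤ L → L ≠ ⊤ → (A.subgroupOf L).IsSubnormal)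
    (hA : ¬ A.IsSubnormal) : ∃ M : Subgroup G, IsCoatom M ∧ A ≤ M ∧ ∀ K, IsCoatom K → A ≤ K → K = M := by
  induction A using WellFoundedGT.induction with
  | _ A ih =>
    have hN : Subgroup.normalizer (A : Set G) ≠ ⊤ := fun h =>
      hA (Subgroup.normalizer_eq_top_iff.mp h).isSubnormal
    obtain ⟨M, hM, hNM⟩ := (eq_top_or_exists_le_coatom _).resolve_left hN
    refine ⟨M, hM, Subgroup.le_normalizer.trans hNM, fun K hK hAK => ?_⟩
    by_cases hKn : K ≤ Subgroup.normalizer (A : Set G)
    · rcases eq_or_lt_of_le (hKn.trans hNM) with h | h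
      · exact h
      · exact absurd (hK.2 M h) hM.1
    -- find a conjugate `A'` of `A` inside `N_K(A)`, normalized by `A`, different from `A`
    obtain ⟨n, f, hmono, hnorm, hf0, hfn⟩ := (hsub K hAK hK.1).exists_chain
    have hex : ∃ i, ¬ (f i).map K.subtype ≤ Subgroup.normalizer (A : Set G) := ⟨n, by
      rw [hfn, ← MonoidHom.range_eq_map, Subgroup.range_subtype]; exact hKn⟩
    classical
    obtain ⟨i, hi⟩ : ∃ i, Nat.find hex = i + 1 := by
      refine Nat.exists_eq_succ_of_ne_zero fun h => ?_
      have := Nat.find_spec hex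
      rw [h, hf0, Subgroup.map_subgroupOf_eq_of_le hAK] at this
      exact this Subgroup.le_normalizer
    have hin : (f i).map K.subtype ≤ Subgroup.normalizer (A : Set G) := by
      by_contra h
      exact Nat.find_min hex (hi ▸ Nat.lt_succ_self i) h
    obtain ⟨x, hx, hxA⟩ := SetLike.not_le_iff_exists.mp (hi ▸ Nat.find_spec hex)
    obtain ⟨⟨x', hxK⟩, hx', rfl⟩ := hx
    have hx1 : x' ∉ Subgroup.normalizer (A : Set G) := hxA
    set A' := A.map (MulAut.conj x' : G →* G) with hA'
    have hA'le : A' ≤ (f i).map K.subtype := by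
      rintro _ ⟨a, ha, rfl⟩
      have hai : (⟨a, hAK ha⟩ : K) ∈ f i := hmono (Nat.zero_le i) (by rw [hf0]; exact ha)
      refine ⟨⟨x', hxK⟩ * ⟨a, hAK ha⟩ * ⟨x', hxK⟩⁻¹, ?_, rfl⟩
      exact (hnorm i).conj_mem ⟨_, hmono (Nat.le_succ i) hai⟩ hai ⟨_, hx'⟩
    have hA'K : A' ≤ K := hA'le.trans (Subgroup.map_subtype_le _)
    have hne : A' ≠ A := fun h => hx1 (by
      exact Subgroup.mem_normalizer_iff_map_conj_eq.mpr h)
    have hA'N : A' ≤ Subgroup.normalizer (A : Set G) := hA'le.trans hin
    have hAlt : A < A ⊔ A' := by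
      refine left_lt_sup.mpr fun h => hne ?_
      exact Subgroup.eq_of_le_of_card_ge h
        (le_of_eq (Nat.card_congr ((A.equivMapOfInjective _ (MulAut.conj x').injective).toEquiv)))
    have hTK : A ⊔ A' ≤ K := sup_le hAK hA'K
    have hTM : A ⊔ A' ≤ M := (sup_le Subgroup.le_normalizer hA'N).trans hNM
    have hsubT : ∀ L : Subgroup G, A ⊔ A' ≤ L → L ≠ ⊤ → ((A ⊔ A').subgroupOf L).IsSubnormal := by
      intro L hTL hL
      have hAL := le_sup_left.trans hTL
      have hA'L : A' ≤ L := le_sup_right.trans hTL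
      rw [Subgroup.subgroupOf_sup hAL hA'L]
      refine sup_isSubnormal (hsub L hAL hL) ?_ ?_
      · set L' := L.map (MulAut.conj x'⁻¹ : G →* G) with hL'
        have hAL' : A ≤ L' := fun a ha => ⟨x' * a * x'⁻¹, hA'L ⟨a, ha, rfl⟩, by simp [mul_assoc]⟩
        have hback : L'.map (MulAut.conj x' : G →* G) = L := by
          rw [hL', Subgroup.map_map]
          convert Subgroup.map_id L
          ext g
          simp [mul_assoc]
        have hL'top : L' ≠ ⊤ := fun h => hL (by
          rw [← hback, h, Subgroup.map_top_of_surjective _ (MulAut.conj x').surjective])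
        have := isSubnormal_map_conj x' hAL' (hsub L' hAL' hL'top)
        rwa [hback] at this
      · intro a ha
        rw [Subgroup.mem_normalizer_iff]
        intro b
        exact Subgroup.mem_normalizer_iff.mp (hA'N ha) b
    have hnorA : (A.subgroupOf (A ⊔ A')).Normal :=
      Subgroup.normal_subgroupOf_of_le_normalizer (sup_le Subgroup.le_normalizer hA'N)
    obtain ⟨M', -, -, huniq⟩ := ih _ hAlt hsubT fun h => hA (.step _ _ le_sup_left h hnorA)
    rw [huniq K hK hTK, huniq M hM hTM]

/-- Wielandt's criterion, relative form. -/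
theorem wielandt_criterion {A : Subgroup G}
    (h : ∀ g : G, (A.subgroupOf (A ⊔ MulAut.conj g • A)).IsSubnormal) : A.IsSubnormal := by
  have main : ∀ L : Subgroup G, A ≤ L → (A.subgroupOf L).IsSubnormal := by
    intro L
    induction L using WellFoundedLT.induction with
    | _ L ih =>
      intro hAL
      by_contra hns
      have hsub : ∀ X : Subgroup L, A.subgroupOf L ≤ X → X ≠ ⊤ →
          ((A.subgroupOf L).subgroupOf X).IsSubnormal := by
        intro X hX hXne
        have hlt : X.map L.subtype < L := by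
          refine lt_of_le_of_ne (Subgroup.map_subtype_le _) fun he => hXne ?_
          refine top_le_iff.mp fun x _ => ?_
          obtain ⟨y, hy, hyx⟩ := he.ge x.2
          exact Subtype.ext hyx ▸ hy
        have hAX : A ≤ X.map L.subtype := fun a ha => ⟨⟨a, hAL ha⟩, hX ha, rfl⟩
        have := (ih _ hlt hAX).comap ((X.equivMapOfInjective _ L.subtype_injective).toMonoidHom)
        exact this
      obtain ⟨M, hM, hAM, huniq⟩ := zipper hsub hns
      have hconj : ∀ g : L, MulAut.conj g • A.subgroupOf L ≤ M := by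
        intro g
        have hle : A ⊔ MulAut.conj (g : G) • A ≤ L := by
          refine sup_le hAL ?_
          rintro _ ⟨a, ha, rfl⟩
          exact mul_mem (mul_mem g.2 (hAL ha)) (inv_mem g.2)
        by_cases htop : A ⊔ MulAut.conj (g : G) • A = L
        · have := h (g : G)
          rw [htop] at this
          exact absurd this hns
        set X := (A ⊔ MulAut.conj (g : G) • A).subgroupOf L with hX
        have hXne : X ≠ ⊤ := fun he => htop (le_antisymm hle (Subgroup.subgroupOf_eq_top.mp he))
        obtain ⟨M', hM', hXM'⟩ := (eq_top_or_exists_le_coatom X).resolve_left hXne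
        have hAX : A.subgroupOf L ≤ X := fun a ha => Subgroup.mem_sup_left ha
        rw [huniq M' hM' (hAX.trans hXM')] at hXM'
        refine le_trans ?_ hXM'
        rintro _ ⟨a, ha, rfl⟩
        exact Subgroup.mem_sup_right ⟨(a : G), ha, rfl⟩
      have hcl : Subgroup.normalClosure ((A.subgroupOf L : Subgroup L) : Set L) ≤ M := by
        refine (Subgroup.closure_le M).mpr fun y hy => ?_
        obtain ⟨a, ha, hay⟩ := Group.mem_conjugatesOfSet_iff.mp hy
        obtain ⟨g, rfl⟩ := isConj_iff.mp hay
        exact hconj g ⟨a, ha, rfl⟩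
      refine hns (Subgroup.IsSubnormal.trans Subgroup.le_normalClosure ?_
        Subgroup.normalClosure_normal.isSubnormal)
      exact hsub _ Subgroup.le_normalClosure fun he => hM.1 (top_le_iff.mp (he ▸ hcl))
  have h2 := (main ⊤ le_top).trans' (Subgroup.IsSubnormal.top (G := G))
  rwa [Subgroup.map_subgroupOf_eq_of_le le_top] at h2

end Cfsg.Agent.H21
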